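import Mathlib
import Groth.Agent.Lib.GenFree.Presentation

/-!
# Uniform degree bounds over all fields

A bound that holds generically on every irreducible closed subset of the spectrum of a Noetherian ring holds at all
its field-valued points. As a first application, colon submodules `(W : v)` of polynomial matrices of bounded degree
are generated in bounded degree, uniformly in the field.
-/

universe u

open TensorProduct MvPolynomial

set_option linter.style.haveILetI false

noncomputable section

namespace GrothLib.RadBound2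

/-- A degree bound holding near every prime holds at all field points. -/
theorem exists_bound {A : Type u} [CommRing A] [IsNoetherianRing A]
    (P : ∀ (K : Type u) [Field K], (A →+* K) → ℕ → Prop)
    (mono : ∀ (K : Type u) [Field K] (φ : A →+* K) (D D' : ℕ), D ≤ D' → P K φ D → P K φ D')
    (gen : ∀ p : Ideal A, p.IsPrime → ∃ f, f ∉ p ∧ ∃ D, ∀ (K : Type u) [Field K] (φ : A →+* K),
      p ≤ RingHom.ker φ → φ f ≠ 0 → P K φ D) :
    ∃ D, ∀ (K : Type u) [Field K] (φ : A →+* K), P K φ D := by
  suffices h : ∀ J : Ideal A, ∃ D, ∀ (K : Type u) [Field K] (φ : A →+* K), J ≤ RingHom.ker φ → P K φ D by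
    obtain ⟨D, hD⟩ := h ⊥
    exact ⟨D, fun K _ φ => hD K φ bot_le⟩
  intro J
  induction J using WellFoundedGT.induction with
  | ind J ih =>
    by_cases hJ : J.IsPrime
    · obtain ⟨f, hf, D, hD⟩ := gen J hJ
      obtain ⟨D', hD'⟩ := ih (J ⊔ Ideal.span {f}) (lt_of_le_of_ne le_sup_left fun h => hf (by
        rw [h]; exact le_sup_right (a := J) (Ideal.mem_span_singleton_self f)))
      refine ⟨max D D', fun K _ φ hφ => ?_⟩
      by_cases hz : φ f = 0
      · exact mono K φ _ _ (le_max_right _ _) (hD' K φ (sup_le hφ (by simpa [Ideal.span_le] using hz)))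
      · exact mono K φ _ _ (le_max_left _ _) (hD K φ hφ hz)
    · rcases Ideal.not_isPrime_iff.mp hJ with htop | ⟨a, ha, b, hb, hab⟩
      · exact ⟨0, fun K _ φ hφ => absurd (top_le_iff.mp (htop ▸ hφ)) (RingHom.ker_isPrime φ).ne_top⟩
      · obtain ⟨D₁, hD₁⟩ := ih (J ⊔ Ideal.span {a}) (lt_of_le_of_ne le_sup_left fun h => ha (by
          rw [h]; exact le_sup_right (a := J) (Ideal.mem_span_singleton_self a)))
        obtain ⟨D₂, hD₂⟩ := ih (J ⊔ Ideal.span {b}) (lt_of_le_of_ne le_sup_left fun h => hb (by
          rw [h]; exact le_sup_right (a := J) (Ideal.mem_span_singleton_self b)))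
        refine ⟨max D₁ D₂, fun K _ φ hφ => ?_⟩
        have hz : φ a * φ b = 0 := by rw [← map_mul]; exact hφ hab
        rcases mul_eq_zero.mp hz with hz | hz
        · exact mono K φ _ _ (le_max_left _ _) (hD₁ K φ (sup_le hφ (by simpa [Ideal.span_le] using hz)))
        · exact mono K φ _ _ (le_max_right _ _) (hD₂ K φ (sup_le hφ (by simpa [Ideal.span_le] using hz)))

variable {N : ℕ}

/-- Generated by polynomials of total degree at most `D`. -/
def GenDeg {R : Type*} [CommRing R] (D : ℕ) (I : Ideal (MvPolynomial (Fin N) R)) : Prop :=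
  ∃ S' : Set (MvPolynomial (Fin N) R), (∀ q ∈ S', q.totalDegree ≤ D) ∧ Ideal.span S' = I

theorem GenDeg.mono {R : Type*} [CommRing R] {D D' : ℕ} {I : Ideal (MvPolynomial (Fin N) R)} (h : GenDeg D I)
    (hle : D ≤ D') : GenDeg D' I :=
  h.imp fun _ hS => ⟨fun q hq => (hS.1 q hq).trans hle, hS.2⟩

theorem totalDegree_map_le {R S : Type*} [CommSemiring R] [CommSemiring S] (φ : R →+* S)
    (p : MvPolynomial (Fin N) R) : (MvPolynomial.map φ p).totalDegree ≤ p.totalDegree :=
  Finset.sup_mono (MvPolynomial.support_map_subset φ p)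

/-- The image of an ideal of a Noetherian polynomial ring is generated in bounded degree. -/
theorem exists_genDeg_map {R : Type u} [CommRing R] [IsNoetherianRing R] (I : Ideal (MvPolynomial (Fin N) R)) :
    ∃ D, ∀ (S : Type u) [CommRing S] (φ : R →+* S), GenDeg D (I.map (MvPolynomial.map φ)) := by
  classical
  obtain ⟨s, hs⟩ := IsNoetherian.noetherian I
  refine ⟨s.sup MvPolynomial.totalDegree, fun S _ φ => ⟨MvPolynomial.map φ '' ↑s, ?_, ?_⟩⟩
  · rintro _ ⟨p, hp, rfl⟩
    exact (totalDegree_map_le φ p).trans (Finset.le_sup hp)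
  · rw [← Ideal.map_span, Ideal.span, hs]

/-- The polynomials `g` with `g • v` in the row space of `M`. -/
def colon {R : Type*} [CommRing R] {e t : ℕ} (v : Fin e → R)
    (M : Fin t → Fin e → MvPolynomial (Fin N) R) : Ideal (MvPolynomial (Fin N) R) :=
  (Submodule.span (MvPolynomial (Fin N) R) (Set.range M)).comap
    (LinearMap.toSpanSingleton _ _ (fun l => C (v l)))

theorem mem_colon {R : Type*} [CommRing R] {e t : ℕ} {v : Fin e → R}
    {M : Fin t → Fin e → MvPolynomial (Fin N) R} {g : MvPolynomial (Fin N) R} :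
    g ∈ colon v M ↔ ∃ c : Fin t → MvPolynomial (Fin N) R, ∀ l, ∑ j, c j * M j l = g * C (v l) := by
  rw [colon, Submodule.mem_comap, Submodule.mem_span_range_iff_exists_fun]
  simp [funext_iff]

theorem map_mem_colon {R S : Type*} [CommRing R] [CommRing S] (φ : R →+* S) {e t : ℕ} {v : Fin e → R}
    {M : Fin t → Fin e → MvPolynomial (Fin N) R} :
    (colon v M).map (MvPolynomial.map φ) ≤ colon (φ ∘ v) (fun j l => MvPolynomial.map φ (M j l)) := by
  rw [Ideal.map_le_iff_le_comap]
  intro g hg
  obtain ⟨c, hc⟩ := mem_colon.mp hg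
  exact mem_colon.mpr ⟨fun j => MvPolynomial.map φ (c j), fun l => by
    simpa using congrArg (MvPolynomial.map φ) (hc l)⟩

/-- An injection whose cokernel is free after inverting `f` stays injective at the field points outside `V(f)`. -/
theorem baseChange_injective_of_free {A : Type u} [CommRing A] {X Y Z : Type u} [AddCommGroup X] [Module A X]
    [AddCommGroup Y] [Module A Y] [AddCommGroup Z] [Module A Z] (ιA : X →ₗ[A] Y) (πA : Y →ₗ[A] Z)
    (hι : Function.Injective ιA) (hex : Function.Exact ιA πA) (hπs : Function.Surjective πA) (f : A)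
    (hfree : Module.Free (Localization.Away f) (Localization.Away f ⊗[A] Z))
    (K : Type u) [Field K] [Algebra A K] (hφ : algebraMap A K f ≠ 0) :
    Function.Injective (ιA.baseChange K) := by
  let Af := Localization.Away f
  letI : Algebra Af K :=
    (IsLocalization.Away.lift (S := Af) f (g := algebraMap A K) (isUnit_iff_ne_zero.mpr hφ)).toAlgebra
  haveI : IsScalarTower A Af K := IsScalarTower.of_algebraMap_eq fun z =>
    (IsLocalization.Away.lift_eq f (isUnit_iff_ne_zero.mpr hφ) z).symm
  let ιf := ιA.baseChange Af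
  let πf := πA.baseChange Af
  have hιf : Function.Injective ιf := by
    haveI : Module.Flat A Af := IsLocalization.flat Af (Submonoid.powers f)
    exact Module.Flat.lTensor_preserves_injective_linearMap ιA hι
  have hexf : Function.Exact ιf πf := lTensor_exact Af hex hπs
  have hπfs : Function.Surjective πf := LinearMap.lTensor_surjective Af hπs
  haveI : Module.Free Af (Af ⊗[A] Z) := hfree
  obtain ⟨s, hs⟩ := Module.projective_lifting_property πf LinearMap.id hπfs
  have hmem : ∀ x, x - s (πf x) ∈ LinearMap.range ιf := fun x => (hexf _).mp (by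
    rw [map_sub]; exact sub_eq_zero.mpr (LinearMap.congr_fun hs (πf x)).symm)
  let r : Af ⊗[A] Y →ₗ[Af] Af ⊗[A] X :=
    (LinearEquiv.ofInjective ιf hιf).symm.toLinearMap ∘ₗ
      (LinearMap.id - s ∘ₗ πf).codRestrict (LinearMap.range ιf) hmem
  have hr : r ∘ₗ ιf = LinearMap.id := by
    refine LinearMap.ext fun x => ?_
    apply (LinearEquiv.ofInjective ιf hιf).injective
    apply Subtype.ext
    have h0 : πf (ιf x) = 0 := hexf.apply_apply_eq_zero x
    simp [r, h0]
  let cX := TensorProduct.AlgebraTensorModule.cancelBaseChange A Af K K X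
  let cY := TensorProduct.AlgebraTensorModule.cancelBaseChange A Af K K Y
  have hcomm : ∀ z, cY (ιf.baseChange K z) = ιA.baseChange K (cX z) := by
    intro z
    induction z with
    | zero => simp
    | add x y hx hy => simp [hx, hy]
    | tmul k y =>
      induction y with
      | zero => simp
      | add x y hx hy => simp only [TensorProduct.tmul_add, map_add, hx, hy]
      | tmul a x => simp [cX, cY, ιf]
  have hleft : Function.LeftInverse (r.baseChange K) (ιf.baseChange K) := fun z => by
    rw [← LinearMap.comp_apply, ← LinearMap.baseChange_comp, hr, LinearMap.baseChange_id]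
    rfl
  intro x y hxy
  rw [← cX.apply_symm_apply x, ← cX.apply_symm_apply y, ← hcomm, ← hcomm] at hxy
  exact cX.symm.injective (hleft.injective (cY.injective hxy))

/-- Generically, the formation of colon ideals commutes with passage to the fibres. -/
theorem colon_generic (A : Type u) [CommRing A] [IsDomain A] [IsNoetherianRing A] {e t : ℕ} (v : Fin e → A)
    (M : Fin t → Fin e → MvPolynomial (Fin N) A) :
    ∃ f : A, f ≠ 0 ∧ ∀ (K : Type u) [Field K] (φ : A →+* K), φ f ≠ 0 →
      colon (φ ∘ v) (fun j l => MvPolynomial.map φ (M j l)) ≤ (colon v M).map (MvPolynomial.map φ) := by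
  classical
  let B := MvPolynomial (Fin N) A
  let W : Submodule B (Fin e → B) := Submodule.span B (Set.range M)
  let τ : B →ₗ[B] (Fin e → B) := LinearMap.toSpanSingleton B _ (fun l => C (v l))
  let κ : Submodule B B := colon v M
  let ι : (B ⧸ κ) →ₗ[B] ((Fin e → B) ⧸ W) := κ.mapQ W τ le_rfl
  have hι : Function.Injective ι := by
    rw [injective_iff_map_eq_zero]
    intro x hx
    obtain ⟨b, rfl⟩ := Submodule.mkQ_surjective κ x
    exact (Submodule.Quotient.mk_eq_zero κ).mpr ((Submodule.Quotient.mk_eq_zero W).mp hx)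
  let Cok := ((Fin e → B) ⧸ W) ⧸ LinearMap.range ι
  obtain ⟨f, -, hf, hfree, -, -, -⟩ :=
    GrothLib.GenFree.exists_free_and_finitePresentation (R := A) B Cok (1 : A) one_ne_zero
  refine ⟨f, hf, fun K _ φ hφ g hg => ?_⟩
  letI : Algebra A K := φ.toAlgebra
  let ιA : (B ⧸ κ) →ₗ[A] ((Fin e → B) ⧸ W) := ι.restrictScalars A
  let πA : ((Fin e → B) ⧸ W) →ₗ[A] Cok := (LinearMap.range ι).mkQ.restrictScalars A
  have hπs : Function.Surjective πA := fun z => Submodule.mkQ_surjective (LinearMap.range ι) z
  have hιA : Function.Injective ιA := fun a b h => hι h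
  have hex : Function.Exact ιA πA := fun y => (LinearMap.exact_map_mkQ_range ι) y
  have hιK : Function.Injective (ιA.baseChange K) :=
    baseChange_injective_of_free (X := B ⧸ κ) (Y := (Fin e → B) ⧸ W) (Z := Cok) ιA πA hιA hex hπs f hfree K hφ
  -- the identification with polynomials over `K`
  let E : K ⊗[A] B ≃ₐ[K] MvPolynomial (Fin N) K := algebraTensorAlgEquiv A K
  let ε : K ⊗[A] (Fin e → B) ≃ₗ[K] (Fin e → MvPolynomial (Fin N) K) :=
    (TensorProduct.piRight A K K fun _ : Fin e => B) ≪≫ₗ LinearEquiv.piCongrRight fun _ => E.toLinearEquiv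
  have hε : ∀ (k : K) (h : Fin e → B) l, ε (k ⊗ₜ h) l = k • MvPolynomial.map φ (h l) := fun k h l =>
    algebraTensorAlgEquiv_tmul (R := A) (A := K) k (h l)
  have hact : ∀ (m : Fin e → B) (x : K ⊗[A] B) l,
      ε (((LinearMap.toSpanSingleton B _ m).restrictScalars A).baseChange K x) l
        = E x * MvPolynomial.map φ (m l) := by
    intro m x l
    induction x with
    | zero => simp
    | add x y hx hy => simp only [map_add, Pi.add_apply, hx, hy, add_mul]
    | tmul k b =>
      have hE : E (k ⊗ₜ b) = k • MvPolynomial.map φ b := algebraTensorAlgEquiv_tmul (R := A) (A := K) k b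
      rw [LinearMap.baseChange_tmul, hε, hE]
      simp
  obtain ⟨c, hc⟩ := mem_colon.mp hg
  let gt : K ⊗[A] B := E.symm g
  have hrel : (τ.restrictScalars A).baseChange K gt
      = ∑ j, ((LinearMap.toSpanSingleton B _ (M j)).restrictScalars A).baseChange K (E.symm (c j)) := by
    apply ε.injective
    ext1 l
    rw [map_sum, Finset.sum_apply, hact]
    simp only [gt, AlgEquiv.apply_symm_apply, map_C]
    refine ((hc l).symm.trans (Finset.sum_congr rfl fun j _ => ?_))
    exact ((hact (M j) (E.symm (c j)) l).trans (by rw [AlgEquiv.apply_symm_apply])).symm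
  have hz : ((κ.mkQ).restrictScalars A).baseChange K gt = 0 := by
    apply hιK
    rw [map_zero, ← LinearMap.comp_apply, ← LinearMap.baseChange_comp]
    have hsq : ιA ∘ₗ κ.mkQ.restrictScalars A = W.mkQ.restrictScalars A ∘ₗ τ.restrictScalars A :=
      LinearMap.ext fun b => rfl
    rw [hsq, LinearMap.baseChange_comp, LinearMap.comp_apply, hrel, map_sum]
    refine Finset.sum_eq_zero fun j _ => ?_
    rw [← LinearMap.comp_apply, ← LinearMap.baseChange_comp,
      show W.mkQ.restrictScalars A ∘ₗ (LinearMap.toSpanSingleton B _ (M j)).restrictScalars A = 0 from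
        LinearMap.ext fun b => (Submodule.Quotient.mk_eq_zero W).mpr
          (W.smul_mem b (Submodule.subset_span ⟨j, rfl⟩)),
      LinearMap.baseChange_zero]
    rfl
  have hexκ : Function.Exact ((κ.subtype.restrictScalars A).lTensor K) ((κ.mkQ.restrictScalars A).lTensor K) :=
    lTensor_exact K (LinearMap.exact_subtype_mkQ κ) (Submodule.mkQ_surjective κ)
  obtain ⟨y, hy⟩ := (hexκ gt).mp hz
  rw [show g = E ((κ.subtype.restrictScalars A).lTensor K y) by rw [hy]; exact (E.apply_symm_apply g).symm]
  clear hy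
  induction y with
  | zero => simp
  | add x y hx hy => rw [map_add, map_add]; exact Ideal.add_mem _ hx hy
  | tmul k b =>
    have hE : E (k ⊗ₜ (b : B)) = k • MvPolynomial.map φ (b : B) := algebraTensorAlgEquiv_tmul (R := A) (A := K) k _
    rw [LinearMap.lTensor_tmul]
    change E (k ⊗ₜ (b : B)) ∈ _
    rw [hE, MvPolynomial.smul_eq_C_mul]
    exact Ideal.mul_mem_left _ _ (Ideal.mem_map_of_mem _ b.2)

/-- The monomials of degree at most `D`. -/
def mons (N D : ℕ) : Finset (Fin N →₀ ℕ) := (Finsupp.finite_of_degree_le (σ := Fin N) D).toFinset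

theorem support_subset_mons {R : Type*} [CommSemiring R] {D : ℕ} {p : MvPolynomial (Fin N) R}
    (h : p.totalDegree ≤ D) : p.support ⊆ mons N D := by
  intro n hn
  rw [mons, Set.Finite.mem_toFinset]
  have := (le_totalDegree hn).trans h
  show Finsupp.degree n ≤ D
  rw [Finsupp.degree_apply]
  exact this

/-- The value of a generic polynomial. -/
theorem map_generic {R V : Type*} [CommRing R] {D : ℕ} (x : (mons N D) → V) (ν : V → R) (φ : MvPolynomial V ℤ →+* R)
    (hφ : ∀ i, φ (X i) = ν i) {p : MvPolynomial (Fin N) R} (hp : p.totalDegree ≤ D)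
    (hν : ∀ n : mons N D, ν (x n) = coeff (n : Fin N →₀ ℕ) p) :
    MvPolynomial.map φ (∑ n : mons N D, monomial (n : Fin N →₀ ℕ) (X (x n))) = p := by
  simp only [map_sum, map_monomial, hφ, hν]
  rw [Finset.sum_coe_sort (mons N D) fun n => monomial n (coeff n p)]
  conv_rhs => rw [p.as_sum]
  exact (Finset.sum_subset (support_subset_mons hp) fun n _ hn => by
    rw [notMem_support_iff.mp hn, monomial_zero]).symm

/-- **Colon ideals of bounded matrices are generated in bounded degree**, uniformly in the field. -/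
theorem exists_colon_bound (N e t D : ℕ) : ∃ D', ∀ (K : Type u) [Field K] (v : Fin e → K)
    (M : Fin t → Fin e → MvPolynomial (Fin N) K), (∀ j l, (M j l).totalDegree ≤ D) → GenDeg D' (colon v M) := by
  let V : Type u := ULift.{u} ((Fin t × Fin e × (mons N D)) ⊕ Fin e)
  let A₀ : Type u := MvPolynomial V ℤ
  let vu : Fin e → A₀ := fun l => X (⟨Sum.inr l⟩ : V)
  let Mu : Fin t → Fin e → MvPolynomial (Fin N) A₀ := fun j l =>
    ∑ n : mons N D, monomial (n : Fin N →₀ ℕ) (X (⟨Sum.inl (j, l, n)⟩ : V))
  obtain ⟨D', hD'⟩ := exists_bound (A := A₀)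
    (fun K _ φ D' => GenDeg D' (colon (φ ∘ vu) fun j l => MvPolynomial.map φ (Mu j l)))
    (fun K _ φ _ _ hle h => h.mono hle) fun p hp => by
      haveI := hp
      let π := Ideal.Quotient.mk p
      obtain ⟨f, hf, hgen⟩ := colon_generic (A₀ ⧸ p) (π ∘ vu) (fun j l => MvPolynomial.map π (Mu j l))
      obtain ⟨f, rfl⟩ := Ideal.Quotient.mk_surjective f
      obtain ⟨D', hD'⟩ := exists_genDeg_map (colon (π ∘ vu) (fun j l => MvPolynomial.map π (Mu j l)))
      refine ⟨f, fun h => hf (Ideal.Quotient.eq_zero_iff_mem.mpr h), D', fun K _ φ hle hne => ?_⟩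
      obtain ⟨φ', rfl⟩ : ∃ φ' : A₀ ⧸ p →+* K, φ'.comp π = φ :=
        ⟨Ideal.Quotient.lift p φ hle, RingHom.ext fun _ => rfl⟩
      have e1 : (fun j l => MvPolynomial.map (φ'.comp π) (Mu j l))
          = fun j l => MvPolynomial.map φ' (MvPolynomial.map π (Mu j l)) := by
        funext j l; rw [MvPolynomial.map_map]
      rw [e1, RingHom.coe_comp, Function.comp_assoc, le_antisymm (hgen K φ' hne) (map_mem_colon φ')]
      exact hD' K φ'
  refine ⟨D', fun K _ v M hM => ?_⟩
  let ν : V → K := fun i => Sum.elim (fun x => coeff (x.2.2 : Fin N →₀ ℕ) (M x.1 x.2.1)) v i.down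
  let φ : A₀ →+* K := eval₂Hom (Int.castRingHom K) ν
  have hX : ∀ i, φ (X i) = ν i := eval₂Hom_X' _ _
  have key := hD' K φ
  rwa [show φ ∘ vu = v from funext fun l => hX _,
    show (fun j l => MvPolynomial.map φ (Mu j l)) = M from funext fun j => funext fun l =>
      map_generic _ ν φ hX (hM j l) fun n => rfl] at key

end GrothLib.RadBound2
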