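import Groth.Agent.Lib.RadBound2.Colon
import Groth.Agent.Lib.GeomRed6.Smooth

/-!
# Radicals of ideals of bounded degree are generated in bounded degree

At the generic point of a parameter space the radical is defined over a finite extension and is geometrically
radical there; this spreads out, and descent along extensions of bounded degree costs a bounded increase of degree.
-/

universe u

open TensorProduct MvPolynomial

set_option linter.style.haveILetI false

noncomputable section

namespace GrothLib.RadBound2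

variable {N : ℕ}

/-- Base change of a quotient of a polynomial ring. -/
theorem isReduced_tensor_quotient_iff (R L : Type u) [CommRing R] [Field L] [Algebra R L]
    (I : Ideal (MvPolynomial (Fin N) R)) :
    IsReduced (L ⊗[R] (MvPolynomial (Fin N) R ⧸ I)) ↔ (I.map (MvPolynomial.map (algebraMap R L))).IsRadical := by
  rw [Ideal.isRadical_iff_quotient_reduced]
  let E : L ⊗[R] MvPolynomial (Fin N) R ≃ₐ[L] MvPolynomial (Fin N) L := algebraTensorAlgEquiv R L
  let e₁ := Algebra.TensorProduct.tensorQuotientEquiv (R := R) L (MvPolynomial (Fin N) R) L I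
  have hE : ((E : L ⊗[R] MvPolynomial (Fin N) R →+* MvPolynomial (Fin N) L).comp
      (Algebra.TensorProduct.includeRight (R := R) (A := L) (B := MvPolynomial (Fin N) R)).toRingHom)
        = MvPolynomial.map (algebraMap R L) := by
    refine RingHom.ext fun p => ?_
    show E (1 ⊗ₜ p) = _
    rw [show E (1 ⊗ₜ p) = (1 : L) • MvPolynomial.map (algebraMap R L) p from
      algebraTensorAlgEquiv_tmul (R := R) (A := L) 1 p, one_smul]
  let e₂ := Ideal.quotientEquivAlg (I.map (Algebra.TensorProduct.includeRight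
    (R := R) (A := L) (B := MvPolynomial (Fin N) R))) (I.map (MvPolynomial.map (algebraMap R L))) E (by
      rw [← hE, ← Ideal.map_map]; rfl)
  exact ⟨fun _ => isReduced_of_injective (e₁.toRingEquiv.trans e₂.toRingEquiv).symm
      (e₁.toRingEquiv.trans e₂.toRingEquiv).symm.injective,
    fun _ => isReduced_of_injective (e₁.toRingEquiv.trans e₂.toRingEquiv)
      (e₁.toRingEquiv.trans e₂.toRingEquiv).injective⟩

/-- Geometric reducedness may be tested in any algebraically closed algebraic extension. -/
theorem isReduced_closure_tensor (R : Type u) [CommRing R] [IsDomain R] (Ω : Type u) [Field Ω] [IsAlgClosed Ω]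
    [Algebra R Ω] (hj : Function.Injective (algebraMap R Ω)) [Algebra.IsAlgebraic R Ω]
    (B : Type u) [CommRing B] [Algebra R B] [IsReduced (Ω ⊗[R] B)] :
    IsReduced (AlgebraicClosure (FractionRing R) ⊗[R] B) := by
  letI : Algebra (FractionRing R) Ω := (IsFractionRing.lift (A := R) (K := FractionRing R) hj).toAlgebra
  haveI : IsScalarTower R (FractionRing R) Ω := IsScalarTower.of_algebraMap_eq fun x =>
    (IsFractionRing.lift_algebraMap hj x).symm
  haveI : Algebra.IsAlgebraic (FractionRing R) Ω :=
    (IsFractionRing.comap_isAlgebraic_iff (A := R) (K := FractionRing R) (C := Ω)).mp inferInstance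
  haveI : IsAlgClosure (FractionRing R) Ω := ⟨inferInstance, inferInstance⟩
  let e := (IsAlgClosure.equiv (FractionRing R) (AlgebraicClosure (FractionRing R)) Ω).restrictScalars R
  exact isReduced_of_injective _ (Algebra.TensorProduct.congr e (AlgEquiv.refl (R := R) (A₁ := B))).injective

/-- A homomorphism to a field extends to a finite integral extension, with bounded residue degree. -/
theorem exists_extension (A A₁ : Type u) [CommRing A] [CommRing A₁] [Algebra A A₁] [Algebra.IsIntegral A A₁]
    (hinj : Function.Injective (algebraMap A A₁)) {d : ℕ} (g : Fin d → A₁)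
    (hg : Submodule.span A (Set.range g) = ⊤) (K : Type u) [Field K] (φ : A →+* K) :
    ∃ (K' : Type u) (_ : Field K') (_ : Algebra K K') (_ : FiniteDimensional K K'),
      Module.finrank K K' ≤ d ∧ ∃ ψ : A₁ →+* K', ψ.comp (algebraMap A A₁) = (algebraMap K K').comp φ := by
  classical
  let p := RingHom.ker φ
  haveI : p.IsPrime := RingHom.ker_isPrime φ
  obtain ⟨P, -, hP, hPp⟩ := Ideal.exists_ideal_over_prime_of_isIntegral (S := A₁) p ⊥ (by
    rw [← RingHom.ker_eq_comap_bot, (RingHom.injective_iff_ker_eq_bot _).mp hinj]; exact bot_le)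
  let L := AlgebraicClosure K
  letI : Algebra (A ⧸ p) (A₁ ⧸ P) := (Ideal.quotientMap P (algebraMap A A₁) hPp.ge).toAlgebra
  haveI : IsScalarTower A (A ⧸ p) (A₁ ⧸ P) := IsScalarTower.of_algebraMap_eq fun _ => rfl
  haveI : Algebra.IsIntegral (A ⧸ p) (A₁ ⧸ P) := Algebra.IsIntegral.tower_top A
  haveI : FaithfulSMul (A ⧸ p) (A₁ ⧸ P) :=
    (faithfulSMul_iff_algebraMap_injective _ _).mpr (Ideal.quotientMap_injective' hPp.le)
  letI : Algebra (A ⧸ p) L :=
    ((algebraMap K L).comp (Ideal.Quotient.lift p φ fun _ h => h)).toAlgebra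
  haveI : FaithfulSMul (A ⧸ p) L := (faithfulSMul_iff_algebraMap_injective _ _).mpr
    ((algebraMap K L).injective.comp (RingHom.lift_injective_of_ker_le_ideal p (fun _ h => h) le_rfl))
  let ψ₀ : A₁ →+* L := (IsAlgClosed.lift (R := A ⧸ p) (S := A₁ ⧸ P) (M := L)).toRingHom.comp (Ideal.Quotient.mk P)
  have hψ₀ : ∀ a, ψ₀ (algebraMap A A₁ a) = algebraMap K L (φ a) := fun a =>
    (IsAlgClosed.lift (R := A ⧸ p) (S := A₁ ⧸ P) (M := L)).commutes (Ideal.Quotient.mk p a)
  let U : Subalgebra K L := Algebra.adjoin K (Set.range ψ₀)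
  let W : Submodule K L := Submodule.span K (Set.range (ψ₀ ∘ g))
  have hW : ∀ a, ψ₀ a ∈ W := fun a => by
    have ha : a ∈ Submodule.span A (Set.range g) := by rw [hg]; trivial
    obtain ⟨c, rfl⟩ := (Submodule.mem_span_range_iff_exists_fun A).mp ha
    rw [map_sum]
    refine W.sum_mem fun i _ => ?_
    rw [Algebra.smul_def, map_mul, hψ₀, ← Algebra.smul_def]
    exact W.smul_mem _ (Submodule.subset_span ⟨i, rfl⟩)
  have hU : Subalgebra.toSubmodule U = W := by
    refine le_antisymm ?_ (Submodule.span_le.mpr ?_)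
    · rw [Algebra.adjoin_eq_span, Submodule.span_le]
      intro x hx
      obtain ⟨a, rfl⟩ : x ∈ MonoidHom.mrange ψ₀.toMonoidHom :=
        Submonoid.closure_le.mpr (fun y hy => hy) hx
      exact hW a
    · rintro _ ⟨i, rfl⟩
      exact Algebra.subset_adjoin ⟨g i, rfl⟩
  have hWfd : FiniteDimensional K W := FiniteDimensional.span_of_finite K (Set.finite_range _)
  haveI : FiniteDimensional K U := by
    show FiniteDimensional K (Subalgebra.toSubmodule U)
    rw [hU]; exact hWfd
  haveI : Algebra.IsAlgebraic K U := Algebra.IsAlgebraic.of_finite K U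
  let K' : IntermediateField K L := U.toIntermediateField' (isField_of_isIntegral_of_isField' (Field.toIsField K))
  haveI : FiniteDimensional K K' := ‹FiniteDimensional K U›
  have hrank : Module.finrank K K' ≤ d := by
    show Module.finrank K (Subalgebra.toSubmodule U) ≤ d
    rw [hU]
    exact (finrank_range_le_card (ψ₀ ∘ g)).trans (Fintype.card_fin d).le
  exact ⟨K', inferInstance, inferInstance, inferInstance, hrank,
    ψ₀.codRestrict K' (fun a => Algebra.subset_adjoin ⟨a, rfl⟩), RingHom.ext fun a => Subtype.ext (hψ₀ a)⟩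

/-- Generically, radicals are defined over extensions of bounded degree by polynomials of bounded degree. -/
theorem radical_generic (A : Type u) [CommRing A] [IsDomain A] [IsNoetherianRing A] {r : ℕ}
    (F : Fin r → MvPolynomial (Fin N) A) :
    ∃ f : A, f ≠ 0 ∧ ∃ d Dq nq : ℕ, ∀ (K : Type u) [Field K] (φ : A →+* K), φ f ≠ 0 →
      ∃ (K' : Type u) (_ : Field K') (_ : Algebra K K') (_ : FiniteDimensional K K'), Module.finrank K K' ≤ d ∧
        ∃ q : Fin nq → MvPolynomial (Fin N) K', (∀ i, (q i).totalDegree ≤ Dq) ∧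
          Ideal.span (Set.range q) =
            (Ideal.span (Set.range fun i => MvPolynomial.map ((algebraMap K K').comp φ) (F i))).radical := by
  classical
  let Ω := AlgebraicClosure (FractionRing A)
  let Fb : Fin r → MvPolynomial (Fin N) Ω := fun i => MvPolynomial.map (algebraMap A Ω) (F i)
  let J := (Ideal.span (Set.range Fb)).radical
  obtain ⟨nq, q, hq⟩ := Submodule.fg_iff_exists_fin_generating_family.mp (IsNoetherian.noetherian J)
  have hFJ : ∀ i, ∃ c : Fin nq → MvPolynomial (Fin N) Ω, ∑ j, c j * q j = Fb i := fun i => by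
    have hi : Fb i ∈ Ideal.span (Set.range q) :=
      hq.ge (Ideal.le_radical (Ideal.subset_span ⟨i, rfl⟩))
    exact Ideal.mem_span_range_iff_exists_fun.mp hi
  choose c hc using hFJ
  have hqF : ∀ j, ∃ ex : ℕ, ∃ b : Fin r → MvPolynomial (Fin N) Ω, ∑ i, b i * Fb i = q j ^ ex := fun j => by
    have hj : q j ∈ J := by rw [← hq]; exact Submodule.subset_span ⟨j, rfl⟩
    obtain ⟨ex, hex⟩ := hj
    exact ⟨ex, Ideal.mem_span_range_iff_exists_fun.mp hex⟩
  choose ex b hb using hqF
  let T : Finset Ω := (Finset.univ.biUnion fun j => (q j).coeffs) ∪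
    ((Finset.univ.biUnion fun i => Finset.univ.biUnion fun j => (c i j).coeffs) ∪
      Finset.univ.biUnion fun j => Finset.univ.biUnion fun i => (b j i).coeffs)
  haveI : Algebra.IsAlgebraic A Ω :=
    (IsFractionRing.comap_isAlgebraic_iff (A := A) (K := FractionRing A) (C := Ω)).mpr inferInstance
  have hmult : ∀ t : Ω, ∃ y : A, y ≠ 0 ∧ IsIntegral A (y • t) := fun t =>
    (Algebra.IsAlgebraic.isAlgebraic (R := A) t).exists_integral_multiple
  choose y hy0 hyint using hmult
  let f₀ : A := ∏ t ∈ T, y t
  have hf₀ : f₀ ≠ 0 := Finset.prod_ne_zero_iff.mpr fun t _ => hy0 t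
  have hint : ∀ x ∈ T.image (fun t => f₀ • t), IsIntegral A x := fun x hx => by
    obtain ⟨t, ht, rfl⟩ := Finset.mem_image.mp hx
    obtain ⟨z, hz⟩ : y t ∣ f₀ := Finset.dvd_prod_of_mem y ht
    rw [hz, mul_comm, mul_smul]
    exact (hyint t).smul z
  let A₁ := Algebra.adjoin A ((T.image fun t => f₀ • t : Finset Ω) : Set Ω)
  haveI : Module.Finite A A₁ :=
    Algebra.finite_adjoin_of_finite_of_isIntegral (Finset.finite_toSet _) hint
  haveI : Algebra.IsIntegral A A₁ := Algebra.IsIntegral.of_finite A A₁
  have hAΩ : Function.Injective (algebraMap A Ω) := by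
    rw [IsScalarTower.algebraMap_eq A (FractionRing A) Ω]
    exact (algebraMap (FractionRing A) Ω).injective.comp (IsFractionRing.injective A (FractionRing A))
  have hAA₁ : Function.Injective (algebraMap A A₁) := fun u v h => hAΩ (congrArg Subtype.val h)
  obtain ⟨d, g, hgs⟩ := Module.Finite.exists_fin (R := A) (M := A₁)
  let s₀ : A₁ := algebraMap A A₁ f₀
  have hs₀ : s₀ ≠ 0 := fun h => hf₀ (hAA₁ (h.trans (map_zero _).symm))
  let R := Localization.Away s₀
  haveI : IsDomain R := IsLocalization.isDomain_localization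
    (powers_le_nonZeroDivisors_of_noZeroDivisors hs₀)
  have hu : IsUnit (A₁.val s₀) := isUnit_iff_ne_zero.mpr fun h => hs₀ (Subtype.ext h)
  let jR : R →+* Ω := IsLocalization.Away.lift s₀ (g := A₁.val.toRingHom) hu
  have hjR : ∀ x, jR (algebraMap A₁ R x) = (x : Ω) := fun x => IsLocalization.Away.lift_eq s₀ hu x
  have hj : Function.Injective jR := by
    refine (injective_iff_map_eq_zero jR).mpr fun z hz => ?_
    obtain ⟨⟨a, ⟨_, k, rfl⟩⟩, hk⟩ := IsLocalization.surj (Submonoid.powers s₀) z
    have ha : a = 0 := Subtype.ext (by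
      rw [← hjR a, ← hk, map_mul, hz, zero_mul]; rfl)
    rw [ha, map_zero] at hk
    exact (IsLocalization.map_units R (⟨s₀ ^ k, k, rfl⟩ : Submonoid.powers s₀)).mul_left_eq_zero.mp hk
  have hTR : ∀ t ∈ T, t ∈ Set.range jR := fun t ht => by
    refine ⟨IsLocalization.mk' R (⟨f₀ • t, Algebra.subset_adjoin (Finset.mem_coe.mpr
      (Finset.mem_image_of_mem _ ht))⟩ : A₁) (⟨s₀, Submonoid.mem_powers _⟩ : Submonoid.powers s₀), ?_⟩
    refine hu.mul_right_cancel (b := A₁.val s₀) ?_
    rw [show A₁.val s₀ = jR (algebraMap A₁ R s₀) from (hjR s₀).symm, ← map_mul]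
    rw [IsLocalization.mk'_spec, hjR, hjR]
    exact (Algebra.smul_def f₀ t).trans (mul_comm _ _)
  have hlift : ∀ p : MvPolynomial (Fin N) Ω, ↑p.coeffs ⊆ Set.range jR → ∃ p', MvPolynomial.map jR p' = p :=
    fun p hp => MvPolynomial.mem_range_map_iff_coeffs_subset.mpr hp
  have hsubq : ∀ j, ∃ p', MvPolynomial.map jR p' = q j := fun j => hlift _ fun t ht => hTR t (by
    simp only [T, Finset.mem_union, Finset.mem_biUnion, Finset.mem_univ, true_and]; exact Or.inl ⟨j, ht⟩)
  have hsubc : ∀ i j, ∃ p', MvPolynomial.map jR p' = c i j := fun i j => hlift _ fun t ht => hTR t (by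
    simp only [T, Finset.mem_union, Finset.mem_biUnion, Finset.mem_univ, true_and]
    exact Or.inr (Or.inl ⟨i, j, ht⟩))
  have hsubb : ∀ j i, ∃ p', MvPolynomial.map jR p' = b j i := fun j i => hlift _ fun t ht => hTR t (by
    simp only [T, Finset.mem_union, Finset.mem_biUnion, Finset.mem_univ, true_and]
    exact Or.inr (Or.inr ⟨j, i, ht⟩))
  choose q' hq' using hsubq
  choose c' hc' using hsubc
  choose b' hb' using hsubb
  let ιR : A →+* R := (algebraMap A₁ R).comp (algebraMap A A₁)
  have hιR : jR.comp ιR = algebraMap A Ω := RingHom.ext fun a => hjR _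
  let F' : Fin r → MvPolynomial (Fin N) R := fun i => MvPolynomial.map ιR (F i)
  have hF' : ∀ i, MvPolynomial.map jR (F' i) = Fb i := fun i => by rw [MvPolynomial.map_map, hιR]
  have hinj := MvPolynomial.map_injective (σ := Fin N) jR hj
  have hc₀ : ∀ i, ∑ j, c' i j * q' j = F' i := fun i => hinj (by
    simp only [map_sum, map_mul, hc', hq', hF']; exact hc i)
  have hb₀ : ∀ j, ∑ i, b' j i * F' i = q' j ^ ex j := fun j => hinj (by
    simp only [map_sum, map_mul, map_pow, hb', hq', hF']; exact hb j)
  -- reducedness of the generic fibre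
  let I : Ideal (MvPolynomial (Fin N) R) := Ideal.span (Set.range q')
  letI : Algebra R Ω := jR.toAlgebra
  haveI : IsScalarTower A R Ω := IsScalarTower.of_algebraMap_eq fun x => (RingHom.congr_fun hιR x).symm
  haveI : Algebra.IsAlgebraic R Ω :=
    Algebra.IsAlgebraic.extendScalars (R := A) (fun u v h => hAΩ ((RingHom.congr_fun hιR u).symm.trans
      ((congrArg jR h).trans (RingHom.congr_fun hιR v))))
  haveI : IsReduced (Ω ⊗[R] (MvPolynomial (Fin N) R ⧸ I)) := by
    refine (isReduced_tensor_quotient_iff R Ω I).mpr ?_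
    rw [Ideal.map_span, ← Set.range_comp,
      show ⇑(MvPolynomial.map (algebraMap R Ω)) ∘ q' = q from funext hq', show Ideal.span (Set.range q) = J from hq]
    exact Ideal.radical_isRadical _
  haveI : IsReduced (AlgebraicClosure (FractionRing R) ⊗[R] (MvPolynomial (Fin N) R ⧸ I)) :=
    isReduced_closure_tensor R Ω hj (MvPolynomial (Fin N) R ⧸ I)
  obtain ⟨g', hg', hnear⟩ := GrothLib.GeomRed6.exists_geomReduced_near R (MvPolynomial (Fin N) R ⧸ I)
  obtain ⟨⟨g₁, ⟨_, k, rfl⟩⟩, hg₁⟩ := IsLocalization.surj (Submonoid.powers s₀) g'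
  have hg₁0 : g₁ ≠ 0 := fun h => hg' (by
    rw [h, map_zero] at hg₁
    exact (IsLocalization.map_units R (⟨s₀ ^ k, k, rfl⟩ : Submonoid.powers s₀)).mul_left_eq_zero.mp hg₁)
  obtain ⟨a₀, ha₀, ha₀0⟩ : ∃ a₀ ∈ (Ideal.span {g₁}).comap (algebraMap A A₁), a₀ ≠ 0 :=
    Submodule.exists_mem_ne_zero_of_ne_bot (Ideal.comap_ne_bot_of_integral_mem hg₁0
      (Ideal.mem_span_singleton_self g₁) (Algebra.IsIntegral.isIntegral g₁))
  refine ⟨f₀ * a₀, mul_ne_zero hf₀ ha₀0, d, Finset.univ.sup fun j => (q' j).totalDegree, nq, fun K _ φ hφ => ?_⟩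
  rw [map_mul] at hφ
  obtain ⟨K', _, _, _, hrank, ψ₁, hψ₁⟩ := exists_extension A A₁ hAA₁ g hgs K φ
  have hψs : ψ₁ s₀ ≠ 0 := by
    show (ψ₁.comp (algebraMap A A₁)) f₀ ≠ 0
    rw [hψ₁]
    exact (map_ne_zero_iff _ (algebraMap K K').injective).mpr (left_ne_zero_of_mul hφ)
  let ψ : R →+* K' := IsLocalization.Away.lift s₀ (g := ψ₁) (isUnit_iff_ne_zero.mpr hψs)
  have hψ : ∀ x, ψ (algebraMap A₁ R x) = ψ₁ x := fun x => IsLocalization.Away.lift_eq s₀ _ x
  have hψg : ψ g' ≠ 0 := fun h => by
    have h1 : ψ₁ g₁ = 0 := by rw [← hψ g₁, ← hg₁, map_mul, h, zero_mul]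
    obtain ⟨w, hw⟩ := Ideal.mem_span_singleton'.mp (Ideal.mem_comap.mp ha₀)
    have h2 : (ψ₁.comp (algebraMap A A₁)) a₀ = 0 := by rw [RingHom.comp_apply, ← hw, map_mul, h1, mul_zero]
    rw [hψ₁] at h2
    exact right_ne_zero_of_mul hφ ((map_eq_zero (algebraMap K K')).mp (by simpa using h2))
  have hcomp : ψ.comp ιR = (algebraMap K K').comp φ :=
    RingHom.ext fun a => (hψ _).trans (RingHom.congr_fun hψ₁ a)
  refine ⟨K', inferInstance, inferInstance, inferInstance, hrank, fun j => MvPolynomial.map ψ (q' j),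
    fun j => (totalDegree_map_le ψ _).trans (Finset.le_sup (f := fun j => (q' j).totalDegree) (Finset.mem_univ j)), ?_⟩
  have hFψ : ∀ i, MvPolynomial.map ((algebraMap K K').comp φ) (F i) = MvPolynomial.map ψ (F' i) := fun i => by
    rw [MvPolynomial.map_map, hcomp]
  simp only [hFψ]
  letI : Algebra R K' := ψ.toAlgebra
  have hrad := (isReduced_tensor_quotient_iff R K' I).mp (hnear K' hψg)
  rw [Ideal.map_span, ← Set.range_comp] at hrad
  refine le_antisymm (Ideal.span_le.mpr ?_) (hrad.radical_le_iff.mpr (Ideal.span_le.mpr ?_))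
  · rintro _ ⟨j, rfl⟩
    exact ⟨ex j, Ideal.mem_span_range_iff_exists_fun.mpr ⟨fun i => MvPolynomial.map ψ (b' j i), by
      simp only [← map_mul, ← map_sum, hb₀, map_pow]⟩⟩
  · rintro _ ⟨i, rfl⟩
    exact Ideal.mem_span_range_iff_exists_fun.mpr ⟨fun j => MvPolynomial.map ψ (c' i j), by
      show ∑ j, MvPolynomial.map ψ (c' i j) * MvPolynomial.map ψ (q' j) = _
      simpa only [← map_mul, ← map_sum] using congrArg (MvPolynomial.map ψ) (hc₀ i)⟩

section Coordinates

variable {K L : Type u} [Field K] [Field L] [Algebra K L] {e : ℕ} (β : Module.Basis (Fin e) K L)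

/-- The coordinates of a polynomial with respect to a basis of the field extension. -/
def coords (p : MvPolynomial (Fin N) L) (l : Fin e) : MvPolynomial (Fin N) K :=
  ∑ n ∈ p.support, monomial n (β.coord l (coeff n p))

theorem coeff_coords (p : MvPolynomial (Fin N) L) (l : Fin e) (n : Fin N →₀ ℕ) :
    coeff n (coords β p l) = β.coord l (coeff n p) := by
  classical
  rw [coords, coeff_sum]
  by_cases hn : n ∈ p.support
  · rw [Finset.sum_eq_single n (fun m _ hm => by rw [coeff_monomial, if_neg hm]) (fun h => absurd hn h),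
      coeff_monomial, if_pos rfl]
  · rw [notMem_support_iff.mp hn, map_zero]
    exact Finset.sum_eq_zero fun m hm => by rw [coeff_monomial, if_neg (ne_of_mem_of_not_mem hm hn)]

theorem totalDegree_coords_le (p : MvPolynomial (Fin N) L) (l : Fin e) :
    (coords β p l).totalDegree ≤ p.totalDegree := by
  refine Finset.sup_mono fun n hn => ?_
  rw [mem_support_iff] at hn ⊢
  intro h
  rw [coeff_coords, h, map_zero] at hn
  exact hn rfl

/-- Reassembling coordinates. -/
def assemble : (Fin e → MvPolynomial (Fin N) K) →+ MvPolynomial (Fin N) L where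
  toFun h := ∑ l, C (β l) * MvPolynomial.map (algebraMap K L) (h l)
  map_zero' := by simp
  map_add' x y := by simp [mul_add, Finset.sum_add_distrib]

theorem assemble_apply (h : Fin e → MvPolynomial (Fin N) K) :
    assemble β h = ∑ l, C (β l) * MvPolynomial.map (algebraMap K L) (h l) := rfl

theorem coeff_assemble (h : Fin e → MvPolynomial (Fin N) K) (n : Fin N →₀ ℕ) :
    coeff n (assemble β h) = ∑ l, coeff n (h l) • β l := by
  rw [assemble_apply, coeff_sum]
  exact Finset.sum_congr rfl fun l _ => by rw [coeff_C_mul, coeff_map, Algebra.smul_def, mul_comm]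

theorem assemble_coords (p : MvPolynomial (Fin N) L) : assemble β (coords β p) = p := by
  ext n
  rw [coeff_assemble]
  simp only [coeff_coords, Module.Basis.coord_apply]
  exact β.sum_repr _

theorem assemble_injective : Function.Injective (assemble (N := N) β) := by
  intro x y h
  funext l
  ext n
  have h' := congrArg (coeff n) h
  rw [coeff_assemble, coeff_assemble] at h'
  have h'' := congrArg (fun z => β.repr z l) h'
  simpa only [β.repr_sum_self] using h''

theorem assemble_mul (g : MvPolynomial (Fin N) K) (h : Fin e → MvPolynomial (Fin N) K) :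
    assemble β (fun l => g * h l) = MvPolynomial.map (algebraMap K L) g * assemble β h := by
  rw [assemble_apply, assemble_apply, Finset.mul_sum]
  exact Finset.sum_congr rfl fun l _ => by rw [map_mul]; ring

theorem assemble_C (c : Fin e → K) : assemble (N := N) β (fun l => C (c l)) = C (∑ l, c l • β l) := by
  rw [assemble_apply, map_sum]
  exact Finset.sum_congr rfl fun l _ => by rw [map_C, ← C_mul, Algebra.smul_def, mul_comm]

include β in
/-- An element is in an ideal extended from `K` iff it is there over the extension. -/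
theorem mem_span_of_map_mem {r : ℕ} (F : Fin r → MvPolynomial (Fin N) K) {g : MvPolynomial (Fin N) K}
    (hg : MvPolynomial.map (algebraMap K L) g ∈ Ideal.span (Set.range fun i => MvPolynomial.map (algebraMap K L) (F i))) :
    g ∈ Ideal.span (Set.range F) := by
  obtain ⟨c, hc⟩ := Ideal.mem_span_range_iff_exists_fun.mp hg
  obtain ⟨l, hl⟩ : ∃ l, β.repr 1 l ≠ 0 := by
    by_contra hcon
    push Not at hcon
    exact one_ne_zero (β.repr.injective (Finsupp.ext (fun l => by simp [hcon l])) : (1 : L) = 0)
  have key : (fun l => g * C (β.repr 1 l)) = fun l => ∑ i, F i * coords β (c i) l := by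
    apply assemble_injective β
    rw [assemble_mul β g (fun l => C (β.repr 1 l)), assemble_C, β.sum_repr, C_1, mul_one,
      show (fun l => ∑ i, F i * coords β (c i) l) = ∑ i, fun l => F i * coords β (c i) l from by
        funext l; rw [Finset.sum_apply], map_sum, ← hc]
    exact Finset.sum_congr rfl fun i _ => by rw [assemble_mul, assemble_coords]; ring
  have hgl : g * C (β.repr 1 l) ∈ Ideal.span (Set.range F) := by
    rw [congrFun key l]
    exact Ideal.sum_mem _ fun i _ => Ideal.mul_mem_right _ _ (Ideal.subset_span ⟨i, rfl⟩)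
  simpa [mul_assoc, ← C_mul, mul_inv_cancel₀ hl] using Ideal.mul_mem_right (C (β.repr 1 l)⁻¹) _ hgl

/-- The contraction of an extended ideal is a colon ideal of coordinates. -/
theorem comap_span_eq_colon {nq : ℕ} (q : Fin nq → MvPolynomial (Fin N) L) :
    (Ideal.span (Set.range q)).comap (MvPolynomial.map (algebraMap K L)) =
      colon (fun l => β.repr 1 l)
        (fun j l => coords β (q (finProdFinEquiv.symm j).1 * C (β (finProdFinEquiv.symm j).2)) l) := by
  ext g
  rw [Ideal.mem_comap, mem_colon]
  have hv : assemble β (fun l => g * C (β.repr 1 l)) = MvPolynomial.map (algebraMap K L) g := by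
    rw [assemble_mul β g (fun l => C (β.repr 1 l)), assemble_C, β.sum_repr, C_1, mul_one]
  have hM : ∀ c : Fin (nq * e) → MvPolynomial (Fin N) K,
      assemble β (fun l => ∑ j, c j * coords β (q (finProdFinEquiv.symm j).1 * C (β (finProdFinEquiv.symm j).2)) l)
        = ∑ i, assemble β (fun l => c (finProdFinEquiv (i, l))) * q i := by
    intro c
    rw [show (fun l => ∑ j, c j * coords β (q (finProdFinEquiv.symm j).1 * C (β (finProdFinEquiv.symm j).2)) l)
        = ∑ j, fun l => c j * coords β (q (finProdFinEquiv.symm j).1 * C (β (finProdFinEquiv.symm j).2)) l from by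
        funext l; rw [Finset.sum_apply], map_sum, ← finProdFinEquiv.sum_comp, Fintype.sum_prod_type]
    refine Finset.sum_congr rfl fun i _ => ?_
    rw [assemble_apply, Finset.sum_mul]
    refine Finset.sum_congr rfl fun l _ => ?_
    rw [assemble_mul, assemble_coords, Equiv.symm_apply_apply]
    ring
  constructor
  · intro hg
    obtain ⟨c, hc⟩ := Ideal.mem_span_range_iff_exists_fun.mp hg
    refine ⟨fun j => coords β (c (finProdFinEquiv.symm j).1) (finProdFinEquiv.symm j).2, congrFun ?_⟩
    apply assemble_injective β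
    rw [hM, hv, ← hc]
    simp only [Equiv.symm_apply_apply, assemble_coords]
  · rintro ⟨c, hc⟩
    exact Ideal.mem_span_range_iff_exists_fun.mpr ⟨fun i => assemble β (fun l => c (finProdFinEquiv (i, l))), by
      rw [← hM c, ← hv, funext hc]⟩

end Coordinates

/-- The bound near a prime of the parameter space. -/
theorem radical_near (A : Type u) [CommRing A] [IsDomain A] [IsNoetherianRing A] {r : ℕ}
    (F : Fin r → MvPolynomial (Fin N) A) :
    ∃ f : A, f ≠ 0 ∧ ∃ D, ∀ (K : Type u) [Field K] (φ : A →+* K), φ f ≠ 0 →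
      GenDeg D (Ideal.span (Set.range fun i => MvPolynomial.map φ (F i))).radical := by
  obtain ⟨f, hf, d, Dq, nq, hgen⟩ := radical_generic A F
  choose D hD using fun e => exists_colon_bound.{u} N e (nq * e) Dq
  refine ⟨f, hf, (Finset.range (d + 1)).sup D, fun K _ φ hφ => ?_⟩
  obtain ⟨K', _, _, _, hrank, q, hqdeg, hq⟩ := hgen K φ hφ
  let β := Module.finBasis K K'
  have hrad : (Ideal.span (Set.range fun i => MvPolynomial.map φ (F i))).radical =
      (Ideal.span (Set.range q)).comap (MvPolynomial.map (algebraMap K K')) := by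
    have hmap : (fun i => MvPolynomial.map ((algebraMap K K').comp φ) (F i))
        = fun i => MvPolynomial.map (algebraMap K K') (MvPolynomial.map φ (F i)) := by
      funext i; rw [MvPolynomial.map_map]
    rw [hq, Ideal.comap_radical, hmap]
    congr 1
    refine le_antisymm (Ideal.span_le.mpr ?_) fun g hg => mem_span_of_map_mem β _ hg
    rintro _ ⟨i, rfl⟩
    exact Ideal.subset_span ⟨i, rfl⟩
  rw [hrad, comap_span_eq_colon β q]
  refine (hD _ K _ _ fun j l => ?_).mono (Finset.le_sup (Finset.mem_range.mpr (Nat.lt_succ_of_le hrank)))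
  exact (totalDegree_coords_le β _ l).trans ((totalDegree_mul _ _).trans (by simpa using hqdeg _))

/-- **Radicals of ideals of bounded degree are generated in bounded degree**, uniformly in the field. -/
theorem exists_radical_bound (N m : ℕ) : ∃ D, ∀ (K : Type u) [Field K] (S : Set (MvPolynomial (Fin N) K)),
    (∀ p ∈ S, p.totalDegree ≤ m) → GenDeg D (Ideal.span S).radical := by
  classical
  let r := (mons N m).card
  let V : Type u := ULift.{u} (Fin r × (mons N m))
  let A₀ : Type u := MvPolynomial V ℤ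
  let Fu : Fin r → MvPolynomial (Fin N) A₀ := fun i =>
    ∑ n : mons N m, monomial (n : Fin N →₀ ℕ) (X (⟨(i, n)⟩ : V))
  obtain ⟨D, hD⟩ := exists_bound (A := A₀)
    (fun K _ φ D => GenDeg D (Ideal.span (Set.range fun i => MvPolynomial.map φ (Fu i))).radical)
    (fun K _ φ _ _ hle h => h.mono hle) fun p hp => by
      haveI := hp
      let π := Ideal.Quotient.mk p
      obtain ⟨f, hf, D, hgen⟩ := radical_near (A₀ ⧸ p) (fun i => MvPolynomial.map π (Fu i))
      obtain ⟨f, rfl⟩ := Ideal.Quotient.mk_surjective f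
      refine ⟨f, fun h => hf (Ideal.Quotient.eq_zero_iff_mem.mpr h), D, fun K _ φ hle hne => ?_⟩
      have hcomp : ∀ i, MvPolynomial.map φ (Fu i) =
          MvPolynomial.map (Ideal.Quotient.lift p φ hle) (MvPolynomial.map π (Fu i)) := fun i => by
        rw [MvPolynomial.map_map, show (Ideal.Quotient.lift p φ hle).comp π = φ from RingHom.ext fun _ => rfl]
      simp only [hcomp]
      exact hgen K _ hne
  refine ⟨D, fun K _ S hS => ?_⟩
  obtain ⟨S₀, hS₀, hspan, hli⟩ := exists_linearIndependent K S
  let W := Submodule.span K (Set.range fun n : mons N m => monomial (n : Fin N →₀ ℕ) (1 : K))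
  haveI : FiniteDimensional K W := FiniteDimensional.span_of_finite K (Set.finite_range _)
  have hS₀W : ∀ p ∈ S₀, p ∈ W := fun p hp => by
    rw [p.as_sum]
    refine W.sum_mem fun n hn => ?_
    rw [show monomial n (coeff n p) = coeff n p • monomial n (1 : K) by rw [smul_monomial, smul_eq_mul, mul_one]]
    exact W.smul_mem _ (Submodule.subset_span ⟨⟨n, support_subset_mons (hS p (hS₀ hp)) hn⟩, rfl⟩)
  have hli' : LinearIndependent K (fun p : S₀ => (⟨p.1, hS₀W p.1 p.2⟩ : W)) :=
    LinearIndependent.of_comp W.subtype hli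
  haveI : Finite S₀ := hli'.finite
  haveI : Fintype S₀ := Fintype.ofFinite _
  have hcard : Fintype.card S₀ ≤ r := hli'.fintype_card_le_finrank.trans
    ((finrank_range_le_card _).trans (Fintype.card_coe _).le)
  let eS := Fintype.equivFin S₀
  let F : Fin r → MvPolynomial (Fin N) K := fun i => if h : (i : ℕ) < Fintype.card S₀ then (eS.symm ⟨i, h⟩).1 else 0
  have hF : Ideal.span (Set.range F) = Ideal.span S := by
    refine le_antisymm (Ideal.span_le.mpr ?_) ?_
    · rintro _ ⟨i, rfl⟩
      simp only [F]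
      split
      · exact Ideal.subset_span (hS₀ (eS.symm _).2)
      · exact Submodule.zero_mem _
    · have h1 : Ideal.span S₀ ≤ Ideal.span (Set.range F) := Ideal.span_le.mpr fun p hp =>
        Ideal.subset_span ⟨Fin.castLE hcard (eS ⟨p, hp⟩), by
          show dite _ _ _ = p
          rw [dif_pos (show ((Fin.castLE hcard (eS ⟨p, hp⟩) : Fin r) : ℕ) < Fintype.card S₀ from (eS ⟨p, hp⟩).2)]
          exact congrArg Subtype.val (eS.symm_apply_apply ⟨p, hp⟩)⟩
      refine le_trans (Ideal.span_le.mpr fun p hp => ?_) h1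
      have h2 : p ∈ Submodule.span K S₀ := by rw [hspan]; exact Submodule.subset_span hp
      exact (Submodule.span_le_restrictScalars K (MvPolynomial (Fin N) K) S₀) h2
  have hFdeg : ∀ i, (F i).totalDegree ≤ m := fun i => by
    simp only [F]
    split
    · exact hS _ (hS₀ (eS.symm _).2)
    · simp
  let ν : V → K := fun i => coeff (i.down.2 : Fin N →₀ ℕ) (F i.down.1)
  let φ : A₀ →+* K := eval₂Hom (Int.castRingHom K) ν
  have key := hD K φ
  rw [show (fun i => MvPolynomial.map φ (Fu i)) = F from funext fun i =>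
    map_generic _ ν φ (eval₂Hom_X' _ _) (hFdeg i) fun n => rfl, hF] at key
  exact key

end GrothLib.RadBound2
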